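import Groth.Agent.ModPairLocal.Criteria
import Groth.Agent.S19345
import Mathlib.RingTheory.Polynomial.ScaleRoots
import Mathlib.FieldTheory.IsAlgClosed.Basic
import Mathlib.RingTheory.Localization.Integer
import Mathlib.RingTheory.Localization.FractionRing

/-! Modulus pairs local for Zariski and finite coverings. -/

universe u

open CategoryTheory AlgebraicGeometry TopologicalSpace Polynomial

set_option linter.style.haveILetI false
set_option linter.unusedSectionVars false
set_option backward.isDefEq.respectTransparency false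
set_option backward.isDefEq.respectTransparency.types false

namespace Groth.Agent.ModPairLocal

attribute [local instance] intAlg

theorem isAIC_quotient {A : Type u} [CommRing A] (h : Curves.IsAIC A) (I : Ideal A) :
    Curves.IsAIC (A ⧸ I) := by
  intro f hf hd
  obtain ⟨F, hF, hFd, hFm⟩ := lifts_and_natDegree_eq_and_monic
    ((mem_lifts f).2 (map_surjective _ Ideal.Quotient.mk_surjective f)) hf
  obtain ⟨r, hr⟩ := h F hFm (by omega)
  exact ⟨Ideal.Quotient.mk I r, by rw [← hF, eval_map, eval₂_at_apply, hr, map_zero]⟩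

theorem isAIC_localization {A B : Type u} [CommRing A] [CommRing B] [Algebra A B] (S : Submonoid A)
    [IsLocalization S B] [Nontrivial B] (h : Curves.IsAIC A) : Curves.IsAIC B := by
  classical
  intro f hf hd
  obtain ⟨s, hs⟩ := IsLocalization.exist_integer_multiples S (Finset.range f.natDegree) f.coeff
  set σ : B := algebraMap A B s.1 with hσ
  have hu : IsUnit σ := IsLocalization.map_units B s
  have hlift : scaleRoots f σ ∈ lifts (algebraMap A B) := by
    rw [lifts_iff_coeff_lifts]
    intro i
    rw [coeff_scaleRoots]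
    rcases lt_trichotomy i f.natDegree with hi | hi | hi
    · obtain ⟨c, hc⟩ := hs i (Finset.mem_range.2 hi)
      refine ⟨c * s.1 ^ (f.natDegree - i - 1), ?_⟩
      have hp : σ ^ (f.natDegree - i) = σ * σ ^ (f.natDegree - i - 1) := by
        rw [← pow_succ']; congr 1; omega
      rw [map_mul, map_pow, hc, hp, Algebra.smul_def, hσ]
      ring
    · exact ⟨1, by rw [hi, hf.coeff_natDegree, map_one]; simp⟩
    · exact ⟨0, by rw [coeff_eq_zero_of_natDegree_lt hi, map_zero, zero_mul]⟩
  obtain ⟨F, hF, hFd, hFm⟩ := lifts_and_natDegree_eq_and_monic hlift ((monic_scaleRoots_iff σ).2 hf)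
  obtain ⟨r, hr⟩ := h F hFm (by rw [natDegree_scaleRoots] at hFd; omega)
  obtain ⟨z, hz⟩ := hu.dvd (a := algebraMap A B r)
  refine ⟨z, ?_⟩
  have h1 : (scaleRoots f σ).eval (σ * z) = 0 := by
    rw [← hz, ← hF, eval_map, eval₂_at_apply, hr, map_zero]
  rw [scaleRoots_eval_mul f z σ] at h1
  exact (hu.pow _).mul_right_eq_zero.1 h1

theorem isAlgClosed_fractionRing {R : Type u} [CommRing R] [IsDomain R] (h : Curves.IsAIC R) :
    IsAlgClosed (FractionRing R) :=
  IsAlgClosed.of_exists_root _ fun p hp hirr =>
    isAIC_localization (nonZeroDivisors R) h p hp hirr.natDegree_pos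

variable (P : ModPair.Pair.{u}) [IsAffine P.total] [IsLocalRing Γ(P.total, ⊤)]
  [IsDomain Γ(P.total, ⊤)]

theorem intRing_facts [IsLocalRing (intRing P)] (h : Curves.IsAIC Γ(P.total, ⊤)) :
    IsDomain (intRing P) ∧ Curves.IsAIC (intRing P) := by
  obtain ⟨a, ha, -, _⟩ := exists_away P
  exact ⟨IsLocalization.isDomain_of_le_nonZeroDivisors (intRing P) (Submonoid.powers_le.2 ha),
    isAIC_localization (Submonoid.powers a) h⟩

theorem locCov_finite (h : Curves.IsAIC Γ(P.total, ⊤)) : LocCov @IsFinite P := by
  intro X ι U v hv hs g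
  obtain ⟨Y, w, l, hw, hl⟩ := ((S19345.result P.total).2 ⟨inferInstance, inferInstance, inferInstance, h⟩).2
    X.total (Presieve.ofArrows (fun i => (U i).total) fun i => (v i).hom)
    ((Scheme.ofArrows_mem_precoverage_iff _).2 ⟨fun x => by
      obtain ⟨i, y, hy⟩ := hs x
      exact ⟨i, y, hy⟩, fun i => (hv i).2⟩) g.hom
  obtain ⟨i⟩ := hw
  obtain ⟨h', hh'⟩ := exists_hom_lift (hv i).1 g l hl
  exact ⟨i, h', hh'⟩

end Groth.Agent.ModPairLocal
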