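import Mathlib.RingTheory.Valuation.ValuationRing
import Mathlib.RingTheory.Localization.AtPrime.Basic
import Mathlib.RingTheory.Localization.Away.Basic
import Mathlib.RingTheory.LocalRing.ResidueField.Basic
import Mathlib.Data.Set.Function

/-! Local rings in which ideals containing powers of a nonzerodivisor are principal. -/

universe u

namespace Groth.Agent.ModPairLocal

variable {A B : Type u} [CommRing A] [CommRing B] [Algebra A B] (a : A) [IsLocalization.Away a B]

/-- Finitely generated ideals containing a power of `a` are principal. -/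
def Key : Prop := ∀ (J : Ideal A), J.FG → ∀ n : ℕ, a ^ n ∈ J → ∃ c, J = Ideal.span {c}

variable {a}

omit [IsLocalization.Away a B] in
theorem Key.dvd_or_dvd [IsLocalRing A] (h : Key a) (ha : a ∈ nonZeroDivisors A) {x y : A} {n : ℕ}
    (hxy : a ^ n ∈ Ideal.span {x, y}) : x ∣ y ∨ y ∣ x := by
  obtain ⟨c, hc⟩ : ∃ c, Ideal.span {x, y} = Ideal.span {c} :=
    h _ (Submodule.fg_span (Set.toFinite _)) n hxy
  obtain ⟨u, hu⟩ : c ∣ x := Ideal.mem_span_singleton.1 (hc ▸ Ideal.subset_span (by simp))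
  obtain ⟨v, hv⟩ : c ∣ y := Ideal.mem_span_singleton.1 (hc ▸ Ideal.subset_span (by simp))
  obtain ⟨α, β, hαβ⟩ := Ideal.mem_span_pair.1
    (show c ∈ Ideal.span {x, y} by rw [hc]; exact Ideal.mem_span_singleton_self c)
  obtain ⟨w, hw⟩ := Ideal.mem_span_singleton.1 (hc ▸ hxy)
  have hc0 : c ∈ nonZeroDivisors A := (mul_mem_nonZeroDivisors.1 (hw ▸ pow_mem ha n)).1
  have h1 : α * u + β * v = 1 := by
    refine sub_eq_zero.1 ((mem_nonZeroDivisors_iff_right.1 hc0) _ ?_)
    linear_combination hαβ - α * hu - β * hv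
  rcases IsLocalRing.isUnit_or_isUnit_of_add_one h1 with hu' | hv'
  · exact Or.inl (hu ▸ hv ▸ mul_dvd_mul_left c (isUnit_of_mul_isUnit_right hu').dvd)
  · exact Or.inr (hu ▸ hv ▸ mul_dvd_mul_left c (isUnit_of_mul_isUnit_right hv').dvd)

theorem algebraMap_injective_of_mem_nonZeroDivisors (ha : a ∈ nonZeroDivisors A) :
    Function.Injective (algebraMap A B) :=
  IsLocalization.injective B (Submonoid.powers_le.2 ha)

theorem exists_pow_of_isUnit (ha : a ∈ nonZeroDivisors A) {s : A} (hs : IsUnit (algebraMap A B s)) :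
    ∃ (n : ℕ) (t : A), s * t = a ^ n := by
  obtain ⟨b, hb⟩ := hs.exists_right_inv
  obtain ⟨n, t, ht⟩ := IsLocalization.Away.surj a b
  refine ⟨n, t, algebraMap_injective_of_mem_nonZeroDivisors (B := B) ha ?_⟩
  rw [map_mul, map_pow, ← ht, ← mul_assoc, hb, one_mul]

theorem isUnit_of_dvd_pow {x : A} {n : ℕ} (h : x ∣ a ^ n) : IsUnit (algebraMap A B x) :=
  isUnit_of_dvd_unit (map_dvd (algebraMap A B) h)
    (by rw [map_pow]; exact (IsLocalization.Away.algebraMap_isUnit a).pow n)

theorem Key.isLocalRing [IsLocalRing A] (h : Key a) (ha : a ∈ nonZeroDivisors A) : IsLocalRing B := by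
  haveI : Nontrivial B := (algebraMap_injective_of_mem_nonZeroDivisors (B := B) ha).nontrivial
  refine IsLocalRing.of_isUnit_or_isUnit_one_sub_self fun b => ?_
  obtain ⟨n, x, hx⟩ := IsLocalization.Away.surj a b
  have han : IsUnit (algebraMap A B a ^ n) := (IsLocalization.Away.algebraMap_isUnit a).pow n
  have hmem : a ^ n ∈ Ideal.span {x, a ^ n - x} :=
    Ideal.mem_span_pair.2 ⟨1, 1, by ring⟩
  rcases h.dvd_or_dvd ha hmem with hd | hd
  · left
    have : x ∣ a ^ n := by simpa using dvd_add hd (dvd_refl x)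
    exact isUnit_of_mul_isUnit_left (y := algebraMap A B a ^ n) (hx ▸ isUnit_of_dvd_pow (a := a) this)
  · right
    have : a ^ n - x ∣ a ^ n := by simpa using dvd_add (dvd_refl (a ^ n - x)) hd
    refine isUnit_of_mul_isUnit_left (y := algebraMap A B a ^ n) ?_
    rw [sub_mul, one_mul, hx, ← map_pow, ← map_sub]
    exact isUnit_of_dvd_pow (a := a) this

variable (a B) [IsLocalRing B]

/-- The prime of the closed point of the interior. -/
def primeB : Ideal A := (IsLocalRing.maximalIdeal B).comap (algebraMap A B)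

omit [IsLocalization.Away a B] in
theorem notMem_primeB {s : A} : s ∉ primeB B ↔ IsUnit (algebraMap A B s) :=
  IsLocalRing.notMem_maximalIdeal

instance : (primeB (A := A) B).IsPrime := Ideal.comap_isPrime _ _

theorem self_notMem_primeB : a ∉ primeB B :=
  (notMem_primeB B).2 (IsLocalization.Away.algebraMap_isUnit a)

include a in
theorem isLocalization_primeB : IsLocalization.AtPrime B (primeB (A := A) B) := by
  refine ⟨⟨fun s => (notMem_primeB B).1 s.2, fun z => ?_, fun {x y} hxy => ?_⟩⟩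
  · obtain ⟨n, x, hx⟩ := IsLocalization.Away.surj a z
    exact ⟨(x, ⟨a ^ n, pow_mem (S := (primeB B).primeCompl) (self_notMem_primeB B a) n⟩),
      by rw [map_pow]; exact hx⟩
  · obtain ⟨n, hn⟩ := IsLocalization.Away.exists_of_eq a hxy
    exact ⟨⟨a ^ n, pow_mem (S := (primeB B).primeCompl) (self_notMem_primeB B a) n⟩, hn⟩

include a in
theorem bijOn_atPrime_iff (L : Type u) [CommRing L] [Algebra A L]
    [IsLocalization.AtPrime L (primeB (A := A) B)] [IsLocalRing L] :
    Set.BijOn (algebraMap A L) (primeB (A := A) B : Set A) (IsLocalRing.maximalIdeal L : Set L) ↔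
      Set.BijOn (algebraMap A B) (primeB (A := A) B : Set A) (IsLocalRing.maximalIdeal B : Set B) := by
  haveI := isLocalization_primeB B a
  let e := IsLocalization.algEquiv (primeB (A := A) B).primeCompl B L
  have he : ∀ x, e (algebraMap A B x) = algebraMap A L x := e.commutes
  have hmax : ∀ z, e z ∈ IsLocalRing.maximalIdeal L ↔ z ∈ IsLocalRing.maximalIdeal B := fun z =>
    not_iff_not.1 (by rw [IsLocalRing.notMem_maximalIdeal, IsLocalRing.notMem_maximalIdeal]; exact isUnit_map_iff e z)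
  constructor
  · intro hb
    refine ⟨fun x hx => hx, fun x hx y hy hxy => hb.injOn hx hy (by rw [← he, ← he, hxy]), fun z hz => ?_⟩
    obtain ⟨x, hx, hxz⟩ := hb.surjOn ((hmax z).2 hz)
    exact ⟨x, hx, e.injective ((he x).trans hxz)⟩
  · intro hb
    refine ⟨fun x hx => ?_, fun x hx y hy hxy => hb.injOn hx hy (e.injective ((he x).trans (hxy.trans (he y).symm))),
      fun z hz => ?_⟩
    · rw [SetLike.mem_coe, ← he, hmax]; exact hx
    · obtain ⟨x, hx, hxz⟩ := hb.surjOn ((hmax (e.symm z)).1 (by rw [e.apply_symm_apply]; exact hz))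
      exact ⟨x, hx, by rw [← he, hxz, e.apply_symm_apply]⟩

variable {a B}

theorem Key.valuationRing [IsLocalRing A] (h : Key a) (ha : a ∈ nonZeroDivisors A) :
    ValuationRing (A ⧸ primeB (A := A) B) := by
  rw [ValuationRing.iff_dvd_total]
  refine ⟨fun x y => ?_⟩
  obtain ⟨x, rfl⟩ := Ideal.Quotient.mk_surjective x
  obtain ⟨y, rfl⟩ := Ideal.Quotient.mk_surjective y
  by_cases hx : x ∈ primeB B
  · rw [Ideal.Quotient.eq_zero_iff_mem.2 hx]; exact Or.inr (dvd_zero _)
  obtain ⟨n, t, ht⟩ := exists_pow_of_isUnit ha ((notMem_primeB B).1 hx)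
  rcases h.dvd_or_dvd ha (x := x) (y := y) (Ideal.mem_span_pair.2 ⟨t, 0, by linear_combination ht⟩ : a ^ n ∈ _)
    with hd | hd
  · exact Or.inl (map_dvd _ hd)
  · exact Or.inr (map_dvd _ hd)

theorem Key.exists_preimage [IsLocalRing A] (h : Key a) (ha : a ∈ nonZeroDivisors A) {z : B}
    (hz : z ∈ IsLocalRing.maximalIdeal B) : ∃ x ∈ primeB (A := A) B, algebraMap A B x = z := by
  obtain ⟨n, x, hx⟩ := IsLocalization.Away.surj a z
  have hxq : x ∈ primeB B := by
    show algebraMap A B x ∈ IsLocalRing.maximalIdeal B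
    rw [← hx]
    exact Ideal.mul_mem_right _ _ hz
  rcases h.dvd_or_dvd ha (x := a ^ n) (y := x) (n := n) (Ideal.subset_span (by simp)) with hd | hd
  · obtain ⟨y, rfl⟩ := hd
    have hy : algebraMap A B y = z := by
      refine ((IsLocalization.Away.algebraMap_isUnit (S := B) a).pow n).mul_left_cancel ?_
      rw [mul_comm _ z, hx, map_mul, map_pow]
    exact ⟨y, show algebraMap A B y ∈ IsLocalRing.maximalIdeal B by rwa [hy], hy⟩
  · exact absurd hxq ((notMem_primeB B).2 (isUnit_of_dvd_pow (a := a) (B := B) hd))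

theorem Key.bijOn [IsLocalRing A] (h : Key a) (ha : a ∈ nonZeroDivisors A) :
    Set.BijOn (algebraMap A B) (primeB (A := A) B : Set A) (IsLocalRing.maximalIdeal B : Set B) :=
  ⟨fun _ hx => hx, (algebraMap_injective_of_mem_nonZeroDivisors ha).injOn, fun _ hz =>
    let ⟨x, hx, hxz⟩ := h.exists_preimage ha hz
    ⟨x, hx, hxz⟩⟩

end Groth.Agent.ModPairLocal
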