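import Groth.Agent.ModPairLocal.Lift

/-! Criteria for locality of modulus pairs. -/

universe u

open CategoryTheory AlgebraicGeometry TopologicalSpace

set_option linter.style.haveILetI false
set_option linter.unusedSectionVars false
set_option backward.isDefEq.respectTransparency false
set_option backward.isDefEq.respectTransparency.types false

namespace Groth.Agent.ModPairLocal

attribute [local instance] intAlg

/-- A lift of the total spaces along a minimal morphism is a lift of pairs. -/
theorem exists_hom_lift {P U X : ModPair.Pair.{u}} {v : U ⟶ X} (hv : ModPair.IsMinimal U.mod X.mod v.hom)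
    (g : P ⟶ X) (h : P.total ⟶ U.total) (hh : h ≫ v.hom = g.hom) : ∃ h' : P ⟶ U, h' ≫ v = g := by
  refine ⟨⟨h, ?_⟩, ModPair.Pair.Hom.ext hh⟩
  change P.mod ≤ U.mod.comap h
  rw [show U.mod = X.mod.comap v.hom from hv, ← Scheme.IdealSheafData.comap_comp, hh]
  exact g.cond

variable (P : ModPair.Pair.{u}) [IsAffine P.total] [IsLocalRing Γ(P.total, ⊤)]

theorem locCov_openImmersion : LocCov (@IsOpenImmersion ⊓ @QuasiCompact) P := by
  intro X ι U v hv hs g
  obtain ⟨i, y, hy⟩ := hs (g.hom (clPt P))
  haveI : IsOpenImmersion (v i).hom := (hv i).2.1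
  have hsub : Set.range g.hom ⊆ Set.range (v i).hom := by
    rintro _ ⟨x, rfl⟩
    have h := eq_top_of_mem P (U := g.hom ⁻¹ᵁ (v i).hom.opensRange) ⟨y, hy⟩
    exact h.ge (Set.mem_univ x)
  obtain ⟨h, hh⟩ := exists_hom_lift (hv i).1 g (IsOpenImmersion.lift (v i).hom g.hom hsub)
    (IsOpenImmersion.lift_fac _ _ _)
  exact ⟨i, h, hh⟩

/-- The shape of a pair local for admissible blow-ups. -/
theorem LocAdm.interior_facts (h : LocAdm P) :
    ∃ (_ : IsAffine (ModPair.interior P.mod : Scheme.{u})) (_ : IsLocalRing (intRing P)),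
      ValuationRing (Γ(P.total, ⊤) ⧸ primeB (A := Γ(P.total, ⊤)) (intRing P)) ∧
      Set.BijOn (algebraMap Γ(P.total, ⊤) (intRing P)) (primeB (A := Γ(P.total, ⊤)) (intRing P) : Set Γ(P.total, ⊤))
        (IsLocalRing.maximalIdeal (intRing P) : Set (intRing P)) := by
  haveI := isAffine_interior P
  haveI := h.isLocalRing_intRing P
  obtain ⟨a, ha, hI, _⟩ := exists_away P
  exact ⟨inferInstance, inferInstance, (h.key P hI).valuationRing ha, (h.key P hI).bijOn ha⟩

/-- Conversely, the shape gives locality for admissible blow-ups. -/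
theorem locAdm_of_shape [IsAffine (ModPair.interior P.mod : Scheme.{u})] [IsLocalRing (intRing P)]
    (hV : ValuationRing (Γ(P.total, ⊤) ⧸ primeB (A := Γ(P.total, ⊤)) (intRing P)))
    (hB : Set.BijOn (algebraMap Γ(P.total, ⊤) (Localization.AtPrime (primeB (A := Γ(P.total, ⊤)) (intRing P))))
        (primeB (A := Γ(P.total, ⊤)) (intRing P) : Set Γ(P.total, ⊤))
        (IsLocalRing.maximalIdeal (Localization.AtPrime (primeB (A := Γ(P.total, ⊤)) (intRing P))) :
          Set (Localization.AtPrime (primeB (A := Γ(P.total, ⊤)) (intRing P))))) : LocAdm P :=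
  haveI := hV
  locAdm_of_valuationRing P ((bijOn_localization_iff P).1 hB)

end Groth.Agent.ModPairLocal
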