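import Mathlib.RingTheory.LocalRing.Module
import Mathlib.RingTheory.Localization.Away.Basic
import Mathlib.RingTheory.Localization.Integer
import Mathlib.RingTheory.Flat.FaithfullyFlat.Basic
import Mathlib.LinearAlgebra.Basis.Basic
import Mathlib.RingTheory.OrzechProperty
import Mathlib.LinearAlgebra.FreeModule.Finite.Basic

/-! Finite free algebras over `A[1/a]` come from finite free algebras over `A`. -/

universe u

open scoped BigOperators

namespace Groth.Agent.ModPairLocal

variable {B T : Type u} [CommRing B] [IsLocalRing B] [CommRing T] [Algebra B T]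

/-- A finite free algebra over a local ring has a basis containing one. -/
theorem exists_basis_one [Nontrivial T] [Module.Free B T] [Module.Finite B T] :
    ∃ (d : ℕ) (b : Module.Basis (Fin (d + 1)) B T), b 0 = 1 := by
  classical
  let b₀ := Module.Free.chooseBasis B T
  haveI : Fintype (Module.Free.ChooseBasisIndex B T) := Module.Free.ChooseBasisIndex.fintype B T
  obtain ⟨j, hj⟩ : ∃ j, IsUnit (b₀.repr 1 j) := by
    by_contra h
    push Not at h
    have htop : (⊤ : Submodule B T) ≤ IsLocalRing.maximalIdeal B • ⊤ := by
      intro x _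
      have h1 : (1 : T) ∈ IsLocalRing.maximalIdeal B • (⊤ : Submodule B T) := by
        rw [← b₀.sum_repr 1]
        exact sum_mem fun i _ => Submodule.smul_mem_smul (h i) trivial
      obtain hx := Submodule.smul_induction_on h1
        (p := fun y => x * y ∈ IsLocalRing.maximalIdeal B • (⊤ : Submodule B T))
        (fun r hr n _ => by rw [mul_smul_comm]; exact Submodule.smul_mem_smul hr trivial)
        (fun y z hy hz => by rw [mul_add]; exact add_mem hy hz)
      rwa [mul_one] at hx
    have := Submodule.eq_bot_of_le_smul_of_le_jacobson_bot _ _ (Module.Finite.fg_top (R := B) (M := T))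
      htop (IsLocalRing.maximalIdeal_le_jacobson ⊥)
    exact one_ne_zero ((Submodule.eq_bot_iff _).1 this (1 : T) trivial)
  let v : Module.Free.ChooseBasisIndex B T → T := Function.update b₀ j 1
  have hspan : ⊤ ≤ Submodule.span B (Set.range v) := by
    rw [← b₀.span_eq, Submodule.span_le]
    rintro _ ⟨i, rfl⟩
    by_cases hi : i = j
    · subst hi
      have hsum := b₀.sum_repr 1
      rw [← Finset.add_sum_erase _ _ (Finset.mem_univ i)] at hsum
      have hv1 : (1 : T) ∈ Submodule.span B (Set.range v) :=
        Submodule.subset_span ⟨i, by simp [v]⟩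
      have hrest : ∑ l ∈ Finset.univ.erase i, b₀.repr 1 l • b₀ l ∈ Submodule.span B (Set.range v) :=
        sum_mem fun l hl => Submodule.smul_mem _ _
          (Submodule.subset_span ⟨l, by simp [v, Finset.ne_of_mem_erase hl]⟩)
      have : b₀.repr 1 i • b₀ i ∈ Submodule.span B (Set.range v) := by
        rw [eq_sub_of_add_eq hsum]
        exact sub_mem hv1 hrest
      exact (Submodule.smul_mem_iff_of_isUnit _ hj).1 this
    · exact Submodule.subset_span ⟨i, by simp [v, hi]⟩
  let g : T →ₗ[B] T := b₀.constr B v
  have hgs : Function.Surjective g := by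
    rw [← LinearMap.range_eq_top, eq_top_iff]
    refine hspan.trans (Submodule.span_le.2 ?_)
    rintro _ ⟨i, rfl⟩
    exact ⟨b₀ i, b₀.constr_basis B v i⟩
  let bv : Module.Basis _ B T := b₀.map
    (LinearEquiv.ofBijective g ⟨OrzechProperty.injective_of_surjective_endomorphism g hgs, hgs⟩)
  let n := Fintype.card (Module.Free.ChooseBasisIndex B T)
  have hn : 0 < n := Fintype.card_pos_iff.2 ⟨j⟩
  obtain ⟨d, hd⟩ : ∃ d, n = d + 1 := ⟨n - 1, by omega⟩
  let e := Fintype.equivFinOfCardEq (α := Module.Free.ChooseBasisIndex B T) hd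
  refine ⟨d, (bv.reindex e).reindex (Equiv.swap (e j) 0), ?_⟩
  simp [bv, g, v]

variable {A : Type u} [CommRing A] [Algebra A B] {a : A} [IsLocalization.Away a B]

/-- If every finite free `A`-algebra has a retraction, so does every finite free `B`-algebra. -/
theorem exists_retraction_free (ha : a ∈ nonZeroDivisors A)
    (hA : ∀ (L : Type u) [CommRing L] [Algebra A L] [Module.Free A L] [Module.Finite A L] [Nontrivial L],
      Nonempty (L →ₐ[A] A))
    (T : Type u) [CommRing T] [Algebra B T] [Module.Free B T] [Module.Finite B T] [Nontrivial T] :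
    Nonempty (T →ₐ[B] B) := by
  classical
  obtain ⟨d, b, hb⟩ := exists_basis_one (B := B) (T := T)
  letI : Algebra A T := ((algebraMap B T).comp (algebraMap A B)).toAlgebra
  haveI : IsScalarTower A B T := .of_algebraMap_eq fun _ => rfl
  obtain ⟨⟨_, N, rfl⟩, hs⟩ := IsLocalization.exist_integer_multiples (Submonoid.powers a)
    (Finset.univ : Finset (Fin (d + 1) × Fin (d + 1) × Fin (d + 1))) fun p => b.repr (b p.1 * b p.2.1) p.2.2
  set σ : B := algebraMap A B a ^ N with hσ
  have hu : IsUnit σ := (IsLocalization.Away.algebraMap_isUnit a).pow N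
  let w : Fin (d + 1) → Bˣ := fun i => if i = 0 then 1 else hu.unit
  let E : Module.Basis (Fin (d + 1)) B T := b.unitsSMul w
  have hE0 : E 0 = 1 := by
    rw [show E 0 = w 0 • b 0 from Module.Basis.unitsSMul_apply 0, hb]
    simp [w]
  have hEi : ∀ i, i ≠ 0 → E i = σ • b i := fun i hi => by
    rw [show E i = w i • b i from Module.Basis.unitsSMul_apply i]
    simp [w, hi, Units.smul_def]
  let L₀ : Submodule A T := Submodule.span A (Set.range E)
  have hmem : ∀ i l, E i * E l ∈ L₀ := by
    intro i l
    by_cases hi : i = 0
    · rw [hi, hE0, one_mul]; exact Submodule.subset_span ⟨l, rfl⟩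
    by_cases hl : l = 0
    · rw [hl, hE0, mul_one]; exact Submodule.subset_span ⟨i, rfl⟩
    have key : ∀ m, (σ * σ * b.repr (b i * b l) m) • b m ∈ L₀ := by
      intro m
      obtain ⟨c, hc⟩ := hs (i, l, m) (Finset.mem_univ _)
      have hc' : algebraMap A B c = σ * b.repr (b i * b l) m := by
        rw [hc, Algebra.smul_def, hσ, map_pow]
      by_cases hm : m = 0
      · subst hm
        have : (σ * σ * b.repr (b i * b l) 0) • b 0 = (a ^ N * c) • E 0 := by
          rw [hE0, hb, ← algebraMap_smul B (a ^ N * c) (1 : T), (algebraMap A B).map_mul, hc', (algebraMap A B).map_pow, ← hσ, mul_assoc]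
        rw [this]
        exact Submodule.smul_mem _ _ (Submodule.subset_span ⟨0, rfl⟩)
      · have : (σ * σ * b.repr (b i * b l) m) • b m = c • E m := by
          rw [hEi m hm, ← algebraMap_smul B c (σ • b m), hc', smul_smul]
          congr 1
          ring
        rw [this]
        exact Submodule.smul_mem _ _ (Submodule.subset_span ⟨m, rfl⟩)
    have : E i * E l = ∑ m, (σ * σ * b.repr (b i * b l) m) • b m := by
      rw [hEi i hi, hEi l hl, smul_mul_smul_comm]
      conv_lhs => rw [← b.sum_repr (b i * b l), Finset.smul_sum]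
      exact Finset.sum_congr rfl fun m _ => smul_smul _ _ _
    rw [this]
    exact sum_mem fun m _ => key m
  have hmul : ∀ x ∈ L₀, ∀ y ∈ L₀, x * y ∈ L₀ := fun x hx y hy => by
    induction hx using Submodule.span_induction with
    | zero => simp
    | add p q _ _ hp hq => rw [add_mul]; exact add_mem hp hq
    | smul r p _ hp => rw [smul_mul_assoc]; exact Submodule.smul_mem _ r hp
    | mem p hp =>
      obtain ⟨i, rfl⟩ := hp
      induction hy using Submodule.span_induction with
      | zero => simp
      | add p q _ _ hp hq => rw [mul_add]; exact add_mem hp hq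
      | smul r p _ hp => rw [mul_smul_comm]; exact Submodule.smul_mem _ r hp
      | mem p hp =>
        obtain ⟨l, rfl⟩ := hp
        exact hmem i l
  let L : Subalgebra A T := L₀.toSubalgebra (hE0 ▸ Submodule.subset_span ⟨0, rfl⟩) fun x y hx hy => hmul x hx y hy
  have hinj : Function.Injective (algebraMap A B) := IsLocalization.injective B (Submonoid.powers_le.2 ha)
  have hli : LinearIndependent A E :=
    E.linearIndependent.restrict_scalars (by
      intro x y hxy
      exact hinj (by simpa [Algebra.smul_def] using hxy))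
  let bL : Module.Basis (Fin (d + 1)) A L := Module.Basis.span hli
  haveI : Module.Free A L := Module.Free.of_basis bL
  haveI : Module.Finite A L := Module.Finite.of_basis bL
  haveI : Nontrivial L := ⟨⟨0, 1, fun h => zero_ne_one (congrArg Subtype.val h : (0 : T) = 1)⟩⟩
  obtain ⟨r⟩ := hA L
  let φ : T →ₗ[B] B := E.constr B fun i => algebraMap A B (r ⟨E i, Submodule.subset_span ⟨i, rfl⟩⟩)
  have hφ : ∀ z : L, φ z.1 = algebraMap A B (r z) := by
    intro z
    have : (φ.restrictScalars A).comp L.val.toLinearMap =
        (Algebra.linearMap A B).comp r.toLinearMap := by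
      refine bL.ext fun i => ?_
      have hbi : bL i = ⟨E i, Submodule.subset_span ⟨i, rfl⟩⟩ := Module.Basis.span_apply hli i
      rw [hbi]
      exact E.constr_basis B _ i
    exact LinearMap.congr_fun this z
  refine ⟨AlgHom.ofLinearMap φ ?_ ?_⟩
  · have := hφ 1
    rwa [map_one, map_one] at this
  · intro x y
    have : (LinearMap.mul B T).compr₂ φ = (LinearMap.mul B B).compl₁₂ φ φ := by
      refine E.ext fun i => E.ext fun l => ?_
      let zi : L := ⟨E i, Submodule.subset_span ⟨i, rfl⟩⟩
      let zl : L := ⟨E l, Submodule.subset_span ⟨l, rfl⟩⟩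
      show φ (zi * zl : L).1 = φ zi.1 * φ zl.1
      rw [hφ, hφ, hφ, map_mul, map_mul]
    exact LinearMap.congr_fun₂ this x y

end Groth.Agent.ModPairLocal
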