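import Groth.Agent.ModPairLocal.Core
import Mathlib.RingTheory.Henselian
import Mathlib.RingTheory.Polynomial.Basic
import Mathlib.Algebra.Polynomial.Taylor
import Mathlib.Algebra.Polynomial.Degree.Lemmas

/-! A local ring glued to a valuation ring along a henselian ring is henselian. -/

universe u

open Polynomial

namespace Groth.Agent.ModPairLocal

variable {A B : Type u} [CommRing A] [CommRing B] [IsLocalRing B] [Algebra A B]

/-- If the maximal ideal of `B` comes from a prime of the henselian ring `A`, then `B` is henselian. -/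
theorem henselianLocalRing_of_surjOn [HenselianLocalRing A] (𝔮 : Ideal A) (h𝔮 : 𝔮 ≠ ⊤)
    (hs : Set.SurjOn (algebraMap A B) (𝔮 : Set A) (IsLocalRing.maximalIdeal B : Set B)) :
    HenselianLocalRing B := by
  classical
  refine ⟨fun f hf a₀ h₁ h₂ => ?_⟩
  set n := f.natDegree with hn
  have hn1 : n ≠ 0 := by
    intro h0
    rw [hf.natDegree_eq_zero.1 h0] at h₂
    simp at h₂
  let d : ℕ → B := fun i => (taylor a₀ f).coeff i
  have hd1 : IsUnit (d 1) := by simpa [d, taylor_coeff_one] using h₂
  obtain ⟨d1, hd1'⟩ := hd1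
  set ε := f.eval a₀ with hε
  let t : B := -((d1⁻¹ : Bˣ) : B)
  have hC : ∀ i : ℕ, 2 ≤ i → ∃ c ∈ 𝔮, algebraMap A B c = d i * ε ^ (i - 1) * t ^ i := fun i hi => by
    obtain ⟨c, hc, hce⟩ := hs (show d i * ε ^ (i - 1) * t ^ i ∈ IsLocalRing.maximalIdeal B from
      Ideal.mul_mem_right _ _ (Ideal.mul_mem_left _ _ (Ideal.pow_mem_of_mem _ h₁ _ (by omega))))
    exact ⟨c, hc, hce⟩
  choose c hc hce using hC
  let c' : ℕ → A := fun i => if h : 2 ≤ i then c i h else 0
  have hc' : ∀ i, c' i ∈ IsLocalRing.maximalIdeal A := fun i => by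
    simp only [c']
    split_ifs with h
    · exact IsLocalRing.le_maximalIdeal h𝔮 (hc i h)
    · exact zero_mem _
  let R : A[X] := -X ^ (n - 1) + ∑ i ∈ Finset.Ico 2 (n + 1), C (c' i) * X ^ (n - i)
  have hR : R.degree < n := by
    refine (degree_add_le _ _).trans_lt (max_lt ?_ ((degree_sum_le _ _).trans_lt
      ((Finset.sup_lt_iff (by exact_mod_cast WithBot.bot_lt_coe n)).2 fun i hi => ?_)))
    · rw [degree_neg]
      exact (degree_X_pow_le _).trans_lt (by exact_mod_cast (show n - 1 < n by omega))
    · rw [Finset.mem_Ico] at hi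
      exact (degree_C_mul_X_pow_le _ _).trans_lt (by exact_mod_cast (show n - i < n by omega))
  let H : A[X] := X ^ n + R
  have hH : H.Monic := monic_X_pow_add hR
  have h1 : H.eval 1 ∈ IsLocalRing.maximalIdeal A := by
    simp only [H, R, eval_add, eval_neg, eval_pow, eval_X, one_pow, eval_finsetSum, eval_mul, eval_C, mul_one]
    rw [add_neg_cancel_left]
    exact sum_mem fun i _ => hc' i
  have h2 : IsUnit (H.derivative.eval 1) := by
    have : H.derivative.eval 1 - 1 ∈ IsLocalRing.maximalIdeal A := by
      simp only [H, R, derivative_add, derivative_neg, derivative_X_pow, derivative_sum, derivative_C_mul,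
        eval_add, eval_neg, eval_pow, eval_X, one_pow, eval_finsetSum, eval_mul, eval_C, mul_one]
      have he : (n : A) + (-((n - 1 : ℕ) : A) + ∑ i ∈ Finset.Ico 2 (n + 1), c' i * ((n - i : ℕ) : A)) - 1
          = ∑ i ∈ Finset.Ico 2 (n + 1), c' i * ((n - i : ℕ) : A) := by
        have : (n : A) = ((n - 1 : ℕ) : A) + 1 := by exact_mod_cast congrArg (Nat.cast (R := A)) (show n = n - 1 + 1 by omega)
        rw [this]; ring
      rw [he]
      exact sum_mem fun i _ => Ideal.mul_mem_right _ _ (hc' i)
    by_contra hu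
    exact (IsLocalRing.maximalIdeal.isMaximal A).ne_top ((Ideal.eq_top_iff_one _).2
      (by simpa using sub_mem (show H.derivative.eval 1 ∈ IsLocalRing.maximalIdeal A from hu) this))
  obtain ⟨w, hw, hw1⟩ := HenselianLocalRing.is_henselian H hH 1 h1 h2
  have hwu : IsUnit w := by
    by_contra hu
    exact (IsLocalRing.maximalIdeal.isMaximal A).ne_top ((Ideal.eq_top_iff_one _).2
      (by simpa using sub_mem (show w ∈ IsLocalRing.maximalIdeal A from hu) hw1))
  obtain ⟨wu, hwu'⟩ := hwu.map (algebraMap A B)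
  let z : B := ((wu⁻¹ : Bˣ) : B)
  have hzw : z * algebraMap A B w = 1 := by rw [← hwu']; exact Units.inv_mul wu
  let y : B := ε * t * z
  refine ⟨a₀ + y, ?_, ?_⟩
  · have hsum : f.eval (a₀ + y) = ∑ i ∈ Finset.range (n + 1), d i * y ^ i := by
      have := taylor_eval a₀ f y
      rw [add_comm] at this
      rw [← this, eval_eq_sum_range' (n := n + 1) (by rw [natDegree_taylor]; omega)]
    refine ((hwu.map (algebraMap A B)).pow n).mul_left_eq_zero.1 ?_
    rw [hsum, Finset.sum_mul]
    have hterm : ∀ i ∈ Finset.range (n + 1), d i * y ^ i * algebraMap A B w ^ n =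
        d i * (ε * t) ^ i * algebraMap A B w ^ (n - i) := fun i hi => by
      rw [Finset.mem_range] at hi
      have : algebraMap A B w ^ n = algebraMap A B w ^ i * algebraMap A B w ^ (n - i) := by
        rw [← pow_add]; congr 1; omega
      rw [this, show d i * y ^ i * (algebraMap A B w ^ i * algebraMap A B w ^ (n - i)) =
        d i * ((ε * t) ^ i * (z * algebraMap A B w) ^ i) * algebraMap A B w ^ (n - i) by
          simp only [y]; ring, hzw, one_pow, mul_one]
    rw [Finset.sum_congr rfl hterm]
    have hw' : algebraMap A B w ^ n + (-algebraMap A B w ^ (n - 1) +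
        ∑ i ∈ Finset.Ico 2 (n + 1), algebraMap A B (c' i) * algebraMap A B w ^ (n - i)) = 0 := by
      have := congrArg (algebraMap A B) hw.eq_zero
      simpa [H, R, eval_finsetSum, map_sum] using this
    rw [← Finset.sum_range_add_sum_Ico _ (show 2 ≤ n + 1 by omega), Finset.sum_range_succ,
      Finset.sum_range_one]
    have hd0 : d 0 = ε := by simp [d, taylor_coeff_zero, ε]
    have hd1t : d 1 * t = -1 := by
      simp only [t, ← hd1', mul_neg, Units.mul_inv]
    have hI : ∀ i ∈ Finset.Ico 2 (n + 1), d i * (ε * t) ^ i * algebraMap A B w ^ (n - i) =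
        ε * (algebraMap A B (c' i) * algebraMap A B w ^ (n - i)) := fun i hi => by
      rw [Finset.mem_Ico] at hi
      simp only [c', dif_pos hi.1, hce]
      have : ε ^ i = ε * ε ^ (i - 1) := by rw [← pow_succ']; congr 1; omega
      rw [mul_pow, this]; ring
    rw [Finset.sum_congr rfl hI, ← Finset.mul_sum, hd0, pow_zero, mul_one, pow_one, Nat.sub_zero,
      show d 1 * (ε * t) * algebraMap A B w ^ (n - 1) = -ε * algebraMap A B w ^ (n - 1) by
        rw [show d 1 * (ε * t) = ε * (d 1 * t) by ring, hd1t]; ring]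
    linear_combination ε * hw'
  · simpa [y] using Ideal.mul_mem_right z _ (Ideal.mul_mem_right t _ h₁)

end Groth.Agent.ModPairLocal
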