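import Groth.Agent.ModPairLocal.Criteria
import Groth.Agent.ModPairLocal.Henselian
import Groth.Agent.S0675
import Groth.Agent.S5062
import Groth.Agent.Hensel.Henselization

/-! Modulus pairs local for etale coverings. -/

universe u

open CategoryTheory CategoryTheory.Limits AlgebraicGeometry TopologicalSpace

set_option linter.style.haveILetI false
set_option linter.unusedSectionVars false
set_option backward.isDefEq.respectTransparency false
set_option backward.isDefEq.respectTransparency.types false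

namespace Groth.Agent.ModPairLocal

attribute [local instance] intAlg

/-- Étale coverings. -/
abbrev EtQ : MorphismProperty Scheme.{u} := @Etale ⊓ @QuasiCompact ⊓ @QuasiSeparated

theorem le_EtQ : (@IsOpenImmersion ⊓ @QuasiCompact : MorphismProperty Scheme.{u}) ≤ EtQ :=
  fun _ _ f h => by
    haveI : IsOpenImmersion f := h.1
    exact ⟨⟨inferInstance, h.2⟩, inferInstance⟩

variable (P : ModPair.Pair.{u}) [IsAffine P.total] [IsLocalRing Γ(P.total, ⊤)]

theorem toSpecΓ_clPt : P.total.isoSpec.hom (clPt P) = IsLocalRing.closedPoint Γ(P.total, ⊤) := by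
  rw [clPt, ← Scheme.Hom.comp_apply, Iso.inv_hom_id]; rfl

theorem mem_or_eq_clPt (x : P.total) :
    x = clPt P ∨ ∃ g ∈ IsLocalRing.maximalIdeal Γ(P.total, ⊤), x ∈ P.total.basicOpen g := by
  by_cases hx : ∃ g ∈ IsLocalRing.maximalIdeal Γ(P.total, ⊤), x ∈ P.total.basicOpen g
  · exact Or.inr hx
  left
  push Not at hx
  have hm : IsLocalRing.maximalIdeal Γ(P.total, ⊤) ≤ (P.total.isoSpec.hom x).asIdeal := fun g hg => by
    by_contra h
    refine hx g hg ?_
    rw [← Scheme.toSpecΓ_preimage_basicOpen]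
    exact h
  have he : P.total.isoSpec.hom x = IsLocalRing.closedPoint Γ(P.total, ⊤) :=
    PrimeSpectrum.ext ((IsLocalRing.maximalIdeal.isMaximal _).eq_of_le
      (P.total.isoSpec.hom x).2.ne_top hm).symm
  rw [← toSpecΓ_clPt P] at he
  exact P.total.isoSpec.hom.homeomorph.injective he

theorem notMem_basicOpen_clPt {g : Γ(P.total, ⊤)} (hg : g ∈ IsLocalRing.maximalIdeal Γ(P.total, ⊤)) :
    clPt P ∉ P.total.basicOpen g := by
  rw [← Scheme.toSpecΓ_preimage_basicOpen]
  intro h
  have h' : g ∉ (P.total.isoSpec.hom (clPt P)).asIdeal := h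
  rw [toSpecΓ_clPt] at h'
  exact h' hg

theorem strictlyHenselian_of_locCov (h : LocCov EtQ P) : EtCoh.IsStrictlyHenselianLocalRing Γ(P.total, ⊤) := by
  refine S0675.strictlyHenselian_of_sections _ fun {C K} _ _ _ _ ψ φ hψ => ?_
  let U : Option {g // g ∈ IsLocalRing.maximalIdeal Γ(P.total, ⊤)} → Scheme.{u} := fun i =>
    match i with
    | none => Spec (CommRingCat.of C)
    | some g => (P.total.basicOpen g.1 : Scheme.{u})
  let v : ∀ i, U i ⟶ P.total := fun i =>
    match i with
    | none => Spec.map (CommRingCat.ofHom (algebraMap Γ(P.total, ⊤) C)) ≫ P.total.isoSpec.inv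
    | some g => (P.total.basicOpen g.1).ι
  let c : Spec (CommRingCat.of C) := ⟨RingHom.ker ψ, RingHom.ker_isPrime ψ⟩
  have hc : Spec.map (CommRingCat.ofHom (algebraMap Γ(P.total, ⊤) C)) c = IsLocalRing.closedPoint Γ(P.total, ⊤) := by
    refine PrimeSpectrum.ext ?_
    show (RingHom.ker ψ).comap (algebraMap Γ(P.total, ⊤) C) = _
    rw [RingHom.comap_ker, hψ, ← RingHom.comap_ker, (RingHom.injective_iff_ker_eq_bot φ).1 φ.injective]
    exact IsLocalRing.ker_residue
  obtain ⟨i, l, hl⟩ := h.scheme (X := P.total) v (fun i => by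
      match i with
      | none =>
        haveI : Etale (Spec.map (CommRingCat.ofHom (algebraMap Γ(P.total, ⊤) C))) := by
          rw [HasRingHomProperty.Spec_iff (P := @Etale)]
          exact RingHom.etale_algebraMap.mpr inferInstance
        have he : Etale (v none) := inferInstanceAs
          (Etale (Spec.map (CommRingCat.ofHom (algebraMap Γ(P.total, ⊤) C)) ≫ P.total.isoSpec.inv))
        refine ⟨⟨he, ?_⟩, ?_⟩
        · exact inferInstanceAs
            (QuasiCompact (Spec.map (CommRingCat.ofHom (algebraMap Γ(P.total, ⊤) C)) ≫ P.total.isoSpec.inv))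
        · exact inferInstanceAs
            (QuasiSeparated (Spec.map (CommRingCat.ofHom (algebraMap Γ(P.total, ⊤) C)) ≫ P.total.isoSpec.inv))
      | some g =>
        haveI : IsAffine (P.total.basicOpen g.1 : Scheme.{u}) := (isAffineOpen_top P.total).basicOpen g.1
        exact le_EtQ _ ⟨(inferInstance : IsOpenImmersion (P.total.basicOpen g.1).ι),
          (inferInstance : QuasiCompact (P.total.basicOpen g.1).ι)⟩)
    (fun x => by
      rcases mem_or_eq_clPt P x with rfl | ⟨g, hg, hx⟩
      · refine ⟨none, c, ?_⟩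
        change (Spec.map _ ≫ P.total.isoSpec.inv) c = _
        rw [Scheme.Hom.comp_apply]
        exact congrArg P.total.isoSpec.inv hc
      · exact ⟨some ⟨g, hg⟩, ⟨x, hx⟩, rfl⟩) (𝟙 _)
  match i with
  | none =>
    obtain ⟨r, hr⟩ := Spec.map_surjective (P.total.isoSpec.inv ≫ l)
    have hh : Spec.map r ≫ Spec.map (CommRingCat.ofHom (algebraMap Γ(P.total, ⊤) C)) = 𝟙 _ := by
      rw [hr, ← cancel_mono P.total.isoSpec.inv, Category.assoc, Category.assoc, Category.id_comp]
      exact (congrArg (P.total.isoSpec.inv ≫ ·) hl).trans (Category.comp_id _)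
    rw [← Spec.map_comp, ← Spec.map_id] at hh
    exact ⟨⟨r.hom, fun x => ConcreteCategory.congr_hom (Spec.map_injective hh) x⟩⟩
  | some g =>
    refine absurd ?_ (notMem_basicOpen_clPt P g.2)
    have hx : (P.total.basicOpen g.1).ι (l (clPt P)) = clPt P := by
      rw [← Scheme.Hom.comp_apply]
      exact congrArg (fun f : P.total ⟶ P.total => f (clPt P)) hl
    exact hx ▸ (l (clPt P)).2

theorem locCov_of_strictlyHenselian (h : EtCoh.IsStrictlyHenselianLocalRing Γ(P.total, ⊤)) :
    LocCov EtQ P := by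
  obtain ⟨hh, hs⟩ := h
  intro X ι U v hv hcov g
  obtain ⟨i, y, hy⟩ := hcov (g.hom (clPt P))
  haveI : Etale (v i).hom := (hv i).2.1.1
  let G : Spec Γ(P.total, ⊤) ⟶ X.total := P.total.isoSpec.inv ≫ g.hom
  obtain ⟨z, hz, -⟩ := Scheme.Pullback.exists_preimage_pullback (f := G) (g := (v i).hom)
    (IsLocalRing.closedPoint Γ(P.total, ⊤)) y (by rw [Scheme.Hom.comp_apply]; exact hy.symm)
  obtain ⟨u, hu, -⟩ := (S5062.result Γ(P.total, ⊤)).1 ⟨hh, hs⟩ (pullback G (v i).hom)
    (pullback.fst G (v i).hom) inferInstance z hz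
  obtain ⟨h', hh'⟩ := exists_hom_lift (hv i).1 g
    (P.total.isoSpec.hom ≫ u ≫ pullback.snd G (v i).hom) (by
      rw [Category.assoc, Category.assoc, ← pullback.condition, reassoc_of% hu, Iso.hom_inv_id_assoc])
  exact ⟨i, h', hh'⟩

omit [IsAffine P.total] [IsLocalRing Γ(P.total, ⊤)] in
/-- Quotients of henselian local rings are henselian. -/
theorem strictlyHenselian_quotient {A : Type u} [CommRing A] (h : EtCoh.IsStrictlyHenselianLocalRing A)
    (I : Ideal A) (hI : I ≠ ⊤) : EtCoh.IsStrictlyHenselianLocalRing (A ⧸ I) := by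
  obtain ⟨_, hsc⟩ := h
  haveI : Nontrivial (A ⧸ I) := Ideal.Quotient.nontrivial_iff.2 hI
  haveI : IsLocalRing (A ⧸ I) := IsLocalRing.of_surjective' _ Ideal.Quotient.mk_surjective
  haveI : IsLocalHom (Ideal.Quotient.mk I) := Ideal.Quotient.mk_surjective.isLocalHom _
  refine ⟨⟨fun f hf b₀ h0 h1 => ?_⟩, ?_⟩
  · obtain ⟨F, hF, -, hFm⟩ := Polynomial.lifts_and_natDegree_eq_and_monic
      ((Polynomial.mem_lifts f).2 (Polynomial.map_surjective _ Ideal.Quotient.mk_surjective f)) hf
    obtain ⟨a₀, rfl⟩ := Ideal.Quotient.mk_surjective b₀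
    rw [← hF, Polynomial.eval_map, Polynomial.eval₂_at_apply] at h0
    rw [← hF, Polynomial.derivative_map, Polynomial.eval_map, Polynomial.eval₂_at_apply] at h1
    obtain ⟨a, ha, ha'⟩ := HenselianLocalRing.is_henselian F hFm a₀
      (fun hu => h0 (hu.map (Ideal.Quotient.mk I))) ((isUnit_map_iff (Ideal.Quotient.mk I) _).1 h1)
    refine ⟨Ideal.Quotient.mk I a, ?_, ?_⟩
    · rw [Polynomial.IsRoot.def, ← hF, Polynomial.eval_map, Polynomial.eval₂_at_apply, ha.eq_zero, map_zero]
    · rw [← map_sub]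
      exact fun hu => ha' ((isUnit_map_iff (Ideal.Quotient.mk I) _).1 hu)
  · refine Hensel.isSepClosed_of_ringEquiv (RingEquiv.ofBijective
      (IsLocalRing.ResidueField.map (Ideal.Quotient.mk I)) ⟨RingHom.injective _, fun x => ?_⟩)
    obtain ⟨b, rfl⟩ := IsLocalRing.residue_surjective x
    obtain ⟨a, rfl⟩ := Ideal.Quotient.mk_surjective b
    exact ⟨IsLocalRing.residue A a, rfl⟩

end Groth.Agent.ModPairLocal
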