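import Groth.Agent.ModPairLocal.Et
import Groth.Agent.ModPairLocal.Descend
import Groth.Agent.S9432
import Groth.Agent.S19328
import Groth.Agent.Hensel.QuasiFiniteSplit
import Mathlib.RingTheory.LocalRing.Module
import Mathlib.RingTheory.Flat.FaithfullyFlat.Algebra

/-! Modulus pairs local for fppf coverings. -/

universe u

open CategoryTheory CategoryTheory.Limits AlgebraicGeometry TopologicalSpace

set_option linter.style.haveILetI false
set_option linter.unusedSectionVars false
set_option backward.isDefEq.respectTransparency false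
set_option backward.isDefEq.respectTransparency.types false

namespace Groth.Agent.ModPairLocal

attribute [local instance] intAlg

/-- fppf coverings. -/
abbrev FppfQ : MorphismProperty Scheme.{u} :=
  @Flat ⊓ @LocallyOfFinitePresentation ⊓ @QuasiCompact ⊓ @QuasiSeparated

theorem EtQ_le_FppfQ : (EtQ : MorphismProperty Scheme.{u}) ≤ FppfQ :=
  fun _ _ f h => by
    haveI : Etale f := h.1.1
    exact ⟨⟨⟨inferInstance, inferInstance⟩, h.1.2⟩, h.2⟩

/-- Locality of the total space gives locality of the pair. -/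
theorem locCov_of_scheme {M : MorphismProperty Scheme.{u}} {P : ModPair.Pair.{u}}
    (h : ∀ (X : Scheme.{u}) (R : Presieve X), R ∈ Scheme.precoverage M X →
      ∀ g : P.total ⟶ X, ∃ (Y : Scheme.{u}) (w : Y ⟶ X) (l : P.total ⟶ Y), R w ∧ l ≫ w = g) :
    LocCov M P := by
  intro X ι U v hv hs g
  obtain ⟨Y, w, l, hw, hl⟩ := h X.total (Presieve.ofArrows (fun i => (U i).total) fun i => (v i).hom)
    ((Scheme.ofArrows_mem_precoverage_iff _).2 ⟨fun x => by
      obtain ⟨i, y, hy⟩ := hs x
      exact ⟨i, y, hy⟩, fun i => (hv i).2⟩) g.hom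
  obtain ⟨i⟩ := hw
  obtain ⟨h', hh'⟩ := exists_hom_lift (hv i).1 g l hl
  exact ⟨i, h', hh'⟩

variable (P : ModPair.Pair.{u}) [IsAffine P.total] [IsLocalRing Γ(P.total, ⊤)]

theorem exists_retraction_of_locCov (h : LocCov FppfQ P) (L : Type u) [CommRing L]
    [Algebra Γ(P.total, ⊤) L] [Module.Free Γ(P.total, ⊤) L] [Module.Finite Γ(P.total, ⊤) L] [Nontrivial L] :
    Nonempty (L →ₐ[Γ(P.total, ⊤)] Γ(P.total, ⊤)) := by
  let π := Spec.map (CommRingCat.ofHom (algebraMap Γ(P.total, ⊤) L))
  haveI : Module.FinitePresentation Γ(P.total, ⊤) L := Module.finitePresentation_of_projective _ L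
  haveI : Algebra.FinitePresentation Γ(P.total, ⊤) L := Algebra.FinitePresentation.of_finitePresentation _ _
  haveI : Flat π := (HasRingHomProperty.Spec_iff (P := @Flat)).2
    (RingHom.flat_algebraMap_iff.2 inferInstance)
  haveI : LocallyOfFinitePresentation π := (HasRingHomProperty.Spec_iff (P := @LocallyOfFinitePresentation)).2
    (RingHom.finitePresentation_algebraMap.2 inferInstance)
  haveI : Module.FaithfullyFlat Γ(P.total, ⊤) L := inferInstance
  obtain ⟨i, l, hl⟩ := h.scheme (X := P.total) (ι := PUnit.{u + 1}) (U := fun _ => Spec (CommRingCat.of L))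
    (fun _ => π ≫ P.total.isoSpec.inv)
    (fun _ => ⟨⟨⟨inferInstance, inferInstance⟩, inferInstance⟩, inferInstance⟩)
    (fun x => by
      obtain ⟨y, hy⟩ := PrimeSpectrum.comap_surjective_of_faithfullyFlat (A := Γ(P.total, ⊤)) (B := L)
        (P.total.isoSpec.hom x)
      refine ⟨PUnit.unit, y, ?_⟩
      change (π ≫ P.total.isoSpec.inv) y = x
      rw [Scheme.Hom.comp_apply, show π y = P.total.isoSpec.hom x from hy]
      exact congrArg (fun f : P.total ⟶ P.total => f x) P.total.isoSpec.hom_inv_id) (𝟙 _)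
  obtain ⟨r, hr⟩ := Spec.map_surjective (P.total.isoSpec.inv ≫ l)
  have hh : Spec.map r ≫ π = 𝟙 _ := by
    rw [hr, ← cancel_mono P.total.isoSpec.inv, Category.assoc, Category.assoc, Category.id_comp]
    exact (congrArg (P.total.isoSpec.inv ≫ ·) hl).trans (Category.comp_id _)
  rw [← Spec.map_comp, ← Spec.map_id] at hh
  exact ⟨⟨r.hom, fun x => ConcreteCategory.congr_hom (Spec.map_injective hh) x⟩⟩

variable [IsAffine (ModPair.interior P.mod : Scheme.{u})]

/-- The interior of a local pair is fppf local. -/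
theorem interior_fppfLocal [HenselianLocalRing (intRing P)] (h : LocCov FppfQ P)
    (X : Scheme.{u}) (R : Presieve X) (hR : R ∈ Scheme.precoverage FppfQ X)
    (g : (ModPair.interior P.mod : Scheme.{u}) ⟶ X) :
    ∃ (Y : Scheme.{u}) (w : Y ⟶ X) (l : (ModPair.interior P.mod : Scheme.{u}) ⟶ Y), R w ∧ l ≫ w = g := by
  obtain ⟨a, ha, -, _⟩ := exists_away P
  obtain ⟨hcov, hM⟩ := hR
  let B := intRing P
  let G : Spec B ⟶ X := (ModPair.interior P.mod : Scheme.{u}).isoSpec.inv ≫ g
  obtain ⟨Y, w, hw, y, hy⟩ := (Presieve.mem_comap_jointlySurjectivePrecoverage_iff Scheme.forget).1 hcov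
    (G (IsLocalRing.closedPoint B))
  haveI : Flat w := (hM hw).1.1.1
  haveI : LocallyOfFinitePresentation w := (hM hw).1.1.2
  obtain ⟨z, hz, -⟩ := Scheme.Pullback.exists_preimage_pullback (f := G) (g := w)
    (IsLocalRing.closedPoint B) y hy.symm
  obtain ⟨S, j, hj, ⟨y', hy'⟩, -⟩ := Scheme.exists_affine_mem_range_and_range_subset
    (x := z) (U := (⊤ : (pullback G w).Opens)) (by simp)
  obtain ⟨φ, hφ⟩ := Spec.map_surjective (j ≫ pullback.fst G w)
  letI : Algebra B S := φ.hom.toAlgebra
  have hflat : Flat (Spec.map φ) := by rw [hφ]; infer_instance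
  have hlfp : LocallyOfFinitePresentation (Spec.map φ) := by rw [hφ]; infer_instance
  haveI : Module.Flat B S := RingHom.flat_algebraMap_iff.1
    ((HasRingHomProperty.Spec_iff (P := @Flat)).1 hflat)
  haveI : Algebra.FinitePresentation B S := RingHom.finitePresentation_algebraMap.1
    ((HasRingHomProperty.Spec_iff (P := @LocallyOfFinitePresentation)).1 hlfp)
  have hpt : Spec.map φ y' = IsLocalRing.closedPoint B := by
    rw [hφ, Scheme.Hom.comp_apply, hy', hz]
  haveI : Module.FaithfullyFlat B S := by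
    refine ⟨fun m hm => ?_⟩
    obtain rfl := IsLocalRing.eq_maximalIdeal hm
    intro htop
    have h1 : (IsLocalRing.maximalIdeal B).map (algebraMap B S) ≤ y'.asIdeal :=
      Ideal.map_le_iff_le_comap.2 (congrArg PrimeSpectrum.asIdeal hpt).ge
    rw [Ideal.smul_top_eq_map, Submodule.restrictScalars_eq_top_iff] at htop
    rw [htop] at h1
    exact y'.2.ne_top (top_le_iff.1 h1)
  obtain ⟨S', _, _, _, _, _, _, ⟨ψ⟩⟩ := S9432.result B S
  obtain ⟨⟨q, hq⟩, hqm⟩ := PrimeSpectrum.comap_surjective_of_faithfullyFlat (A := B) (B := S')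
    (IsLocalRing.closedPoint B)
  haveI := hq
  haveI : q.LiesOver (IsLocalRing.maximalIdeal B) := ⟨(congrArg PrimeSpectrum.asIdeal hqm).symm⟩
  haveI : Algebra.QuasiFiniteAt B q := inferInstance
  haveI := Hensel.exists_finite_localization_of_quasiFiniteAt B q
  let T := Localization.AtPrime q
  haveI : Module.Flat S' T := IsLocalization.flat T q.primeCompl
  haveI : Module.Flat B T := Module.Flat.trans B S' T
  haveI : Module.Free B T := Module.free_of_flat_of_isLocalRing
  obtain ⟨σ⟩ := exists_retraction_free (B := B) (a := a) ha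
    (fun L _ _ _ _ _ => exists_retraction_of_locCov P h L) T
  let τ : S →ₐ[B] B := σ.comp ((IsScalarTower.toAlgHom B S' T).comp ψ)
  have hs : Spec.map (CommRingCat.ofHom τ.toRingHom) ≫ Spec.map φ = 𝟙 _ := by
    rw [← Spec.map_comp, ← Spec.map_id]
    congr 1
    ext x
    exact τ.commutes x
  refine ⟨Y, w, (ModPair.interior P.mod : Scheme.{u}).isoSpec.hom ≫
    Spec.map (CommRingCat.ofHom τ.toRingHom) ≫ j ≫ pullback.snd G w, hw, ?_⟩
  rw [Category.assoc, Category.assoc, Category.assoc, ← pullback.condition, ← reassoc_of% hφ,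
    reassoc_of% hs, Iso.hom_inv_id_assoc]

theorem isAlgClosed_fractionRing_quotient (h : LocCov FppfQ P) (q : Ideal Γ(P.total, ⊤)) [q.IsPrime] :
    IsAlgClosed (FractionRing (Γ(P.total, ⊤) ⧸ q)) := by
  haveI := S19328.result Γ(P.total, ⊤) (fun X R hR g => by
    obtain ⟨Y, w, l, hw, hl⟩ := h.presieve X R hR (P.total.isoSpec.hom ≫ g)
    exact ⟨Y, w, P.total.isoSpec.inv ≫ l, hw, by rw [Category.assoc, hl, Iso.inv_hom_id_assoc]⟩) q
  exact IsAlgClosed.of_ringEquiv q.ResidueField _
    (IsLocalization.algEquiv (nonZeroDivisors (Γ(P.total, ⊤) ⧸ q)) q.ResidueField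
      (FractionRing (Γ(P.total, ⊤) ⧸ q))).toRingEquiv

end Groth.Agent.ModPairLocal
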