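import Mathlib.AlgebraicGeometry.AffineScheme
import Mathlib.RingTheory.Spectrum.Prime.Topology

/-! Morphisms out of the spectrum of a fibre product of local rings. -/

universe u

open CategoryTheory AlgebraicGeometry

namespace Groth.Agent.ModPairLocal

variable {X : Scheme.{u}}

/-- A morphism out of a local scheme lands in every open containing the image of the closed point. -/
theorem range_subset_of_closedPoint {A : CommRingCat.{u}} [IsLocalRing A] (G : Spec A ⟶ X)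
    {V : X.Opens} (h : G (IsLocalRing.closedPoint A) ∈ V) : Set.range G ⊆ V := by
  rintro _ ⟨x, rfl⟩
  exact ((IsLocalRing.specializes_closedPoint x).map G.continuous).mem_open V.2 h

theorem closedPoint_apply {A B : CommRingCat.{u}} [IsLocalRing A] [IsLocalRing B] (α : A ⟶ B)
    [IsLocalHom α.hom] : Spec.map α (IsLocalRing.closedPoint B) = IsLocalRing.closedPoint A :=
  IsLocalRing.comap_closedPoint α.hom

theorem exists_eq_Spec_map_fromSpec {A : CommRingCat.{u}} [IsLocalRing A] {V : X.Opens}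
    (hV : IsAffineOpen V) (G : Spec A ⟶ X) (h : G (IsLocalRing.closedPoint A) ∈ V) :
    ∃ φ, Spec.map φ ≫ hV.fromSpec = G := by
  obtain ⟨φ, hφ⟩ := Spec.map_surjective (IsOpenImmersion.lift hV.fromSpec G
    (by rw [hV.range_fromSpec]; exact range_subset_of_closedPoint G h))
  exact ⟨φ, by rw [hφ]; exact IsOpenImmersion.lift_fac _ _ _⟩

theorem eq_of_fromSpec {A : CommRingCat.{u}} {V : X.Opens} (hV : IsAffineOpen V)
    {φ φ' : Γ(X, V) ⟶ A} (h : Spec.map φ ≫ hV.fromSpec = Spec.map φ' ≫ hV.fromSpec) : φ = φ' :=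
  Spec.map_injective ((cancel_mono hV.fromSpec).1 h)

variable {A R B κ : CommRingCat.{u}} (α : A ⟶ R) (β : A ⟶ B) (ρ : R ⟶ κ) (σ : B ⟶ κ)
  [IsLocalRing A] [IsLocalRing R] [IsLocalRing B] [IsLocalRing κ] [IsLocalHom α.hom]
  (hinj : ∀ a b, α a = α b → β a = β b → a = b)

include hinj in
theorem hom_ext_glue {G G' : Spec A ⟶ X} (h₁ : Spec.map α ≫ G = Spec.map α ≫ G')
    (h₂ : Spec.map β ≫ G = Spec.map β ≫ G') : G = G' := by
  obtain ⟨V, hV, hc, -⟩ := exists_isAffineOpen_mem_and_subset (U := ⊤)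
    (Set.mem_univ (G (IsLocalRing.closedPoint A)))
  have hc' : G' (IsLocalRing.closedPoint A) ∈ V := by
    rw [← closedPoint_apply α, ← Scheme.Hom.comp_apply, ← h₁, Scheme.Hom.comp_apply, closedPoint_apply α]
    exact hc
  obtain ⟨φ, rfl⟩ := exists_eq_Spec_map_fromSpec hV G hc
  obtain ⟨φ', rfl⟩ := exists_eq_Spec_map_fromSpec hV G' hc'
  rw [← Spec.map_comp_assoc, ← Spec.map_comp_assoc] at h₁ h₂
  have e₁ := eq_of_fromSpec hV h₁
  have e₂ := eq_of_fromSpec hV h₂
  congr 2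
  ext x
  exact hinj _ _ (ConcreteCategory.congr_hom e₁ x) (ConcreteCategory.congr_hom e₂ x)

include hinj in
theorem exists_glue [IsLocalHom σ.hom] (hsq : α ≫ ρ = β ≫ σ)
    (hfib : ∀ r b, ρ r = σ b → ∃ a, α a = r ∧ β a = b)
    (G₁ : Spec R ⟶ X) (G₂ : Spec B ⟶ X) (h : Spec.map ρ ≫ G₁ = Spec.map σ ≫ G₂) :
    ∃ G : Spec A ⟶ X, Spec.map α ≫ G = G₁ ∧ Spec.map β ≫ G = G₂ := by
  obtain ⟨V, hV, hc, -⟩ := exists_isAffineOpen_mem_and_subset (U := ⊤)
    (Set.mem_univ (G₁ (IsLocalRing.closedPoint R)))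
  have hc' : G₂ (IsLocalRing.closedPoint B) ∈ V := by
    rw [← closedPoint_apply σ, ← Scheme.Hom.comp_apply, ← h, Scheme.Hom.comp_apply]
    exact range_subset_of_closedPoint G₁ hc ⟨_, rfl⟩
  obtain ⟨φ₁, rfl⟩ := exists_eq_Spec_map_fromSpec hV G₁ hc
  obtain ⟨φ₂, rfl⟩ := exists_eq_Spec_map_fromSpec hV G₂ hc'
  rw [← Spec.map_comp_assoc, ← Spec.map_comp_assoc] at h
  have e := eq_of_fromSpec hV h
  choose a ha₁ ha₂ using fun x => hfib (φ₁ x) (φ₂ x) (ConcreteCategory.congr_hom e x)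
  let ψ : Γ(X, V) →+* A :=
    { toFun := a
      map_one' := hinj _ _ (by simp [ha₁]) (by simp [ha₂])
      map_zero' := hinj _ _ (by simp [ha₁]) (by simp [ha₂])
      map_mul' := fun x y => hinj _ _ (by simp [ha₁]) (by simp [ha₂])
      map_add' := fun x y => hinj _ _ (by simp [ha₁]) (by simp [ha₂]) }
  refine ⟨Spec.map (CommRingCat.ofHom ψ) ≫ hV.fromSpec, ?_, ?_⟩
  · rw [← Spec.map_comp_assoc]
    congr 2
    ext x
    exact ha₁ x
  · rw [← Spec.map_comp_assoc]
    congr 2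
    ext x
    exact ha₂ x

end Groth.Agent.ModPairLocal
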