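import Groth.Agent.ModPairLocal.Pair
import Groth.Agent.ModPairLocal.Core

/-! The interior of a local modulus pair. -/

universe u

open CategoryTheory AlgebraicGeometry TopologicalSpace

set_option linter.style.haveILetI false
set_option linter.unusedSectionVars false
set_option backward.isDefEq.respectTransparency false
set_option backward.isDefEq.respectTransparency.types false

namespace Groth.Agent.ModPairLocal

variable (P : ModPair.Pair.{u})

/-- The ring of functions on the interior. -/
noncomputable abbrev intRing : CommRingCat.{u} := Γ((ModPair.interior P.mod : Scheme.{u}), ⊤)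

/-- Restriction of functions to the interior. -/
@[reducible] noncomputable def intAlg : Algebra Γ(P.total, ⊤) (intRing P) :=
  (ModPair.interior P.mod).ι.appTop.hom.toAlgebra

attribute [local instance] intAlg

theorem isLocalization_basicOpen_scheme {X : Scheme.{u}} [IsAffine X] (a : Γ(X, ⊤)) (U : X.Opens)
    (h : U = X.basicOpen a) :
    letI := U.ι.appTop.hom.toAlgebra
    IsLocalization.Away a Γ((U : Scheme.{u}), ⊤) := by
  subst h
  letI := (X.basicOpen a).ι.appTop.hom.toAlgebra
  haveI := (isAffineOpen_top X).isLocalization_basicOpen a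
  have hc : (X.basicOpen a).ι.appTop = X.presheaf.map (homOfLE (X.basicOpen_le a)).op ≫ (X.basicOpen a).topIso.inv := by
    rw [Iso.eq_comp_inv]
    simp only [Scheme.Opens.ι_appTop, Scheme.Opens.topIso_hom, ← Functor.map_comp]
    exact congrArg X.presheaf.map (Subsingleton.elim _ _)
  let e : Γ(X, X.basicOpen a) ≃ₐ[Γ(X, ⊤)] Γ((X.basicOpen a : Scheme.{u}), ⊤) :=
    AlgEquiv.ofRingEquiv (f := (X.basicOpen a).topIso.symm.commRingCatIsoToRingEquiv)
      fun x => (ConcreteCategory.congr_hom hc x).symm
  exact IsLocalization.isLocalization_of_algEquiv _ e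

variable [IsAffine P.total] [IsLocalRing Γ(P.total, ⊤)]

theorem isAffine_interior : IsAffine (ModPair.interior P.mod : Scheme.{u}) := by
  obtain ⟨a, -, -, ha⟩ := exists_equation P
  rw [ha]
  exact (isAffineOpen_top P.total).basicOpen a

theorem exists_away : ∃ a : Γ(P.total, ⊤), a ∈ nonZeroDivisors Γ(P.total, ⊤) ∧
    P.mod.ideal ⟨⊤, isAffineOpen_top _⟩ = Ideal.span {a} ∧ IsLocalization.Away a (intRing P) := by
  obtain ⟨a, ha, hI, he⟩ := exists_equation P
  exact ⟨a, ha, hI, isLocalization_basicOpen_scheme a _ he⟩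

theorem LocAdm.key {a : Γ(P.total, ⊤)} (h : LocAdm P)
    (ha : P.mod.ideal ⟨⊤, isAffineOpen_top _⟩ = Ideal.span {a}) : Key a :=
  fun _ hJ _ hn => h.exists_span_singleton P ha hJ hn

theorem LocAdm.isLocalRing_intRing (h : LocAdm P) : IsLocalRing (intRing P) := by
  obtain ⟨a, ha, hI, _⟩ := exists_away P
  exact (h.key P hI).isLocalRing ha

omit [IsAffine P.total] [IsLocalRing Γ(P.total, ⊤)] in
/-- In an affine local scheme the closed point is unique. -/
theorem toSpecΓ_eq_closedPoint {X : Scheme.{u}} [IsAffine X] [IsLocalRing Γ(X, ⊤)] {x : X}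
    (hx : IsClosed ({x} : Set X)) : X.toSpecΓ x = IsLocalRing.closedPoint Γ(X, ⊤) := by
  have h1 := X.isoSpec.hom.homeomorph.isClosedMap _ hx
  rw [Set.image_singleton] at h1
  exact PrimeSpectrum.ext (IsLocalRing.eq_maximalIdeal
    ((PrimeSpectrum.isClosed_singleton_iff_isMaximal _).1 h1))

variable [IsAffine (ModPair.interior P.mod : Scheme.{u})] [IsLocalRing (intRing P)]

theorem asIdeal_eq {p : (ModPair.interior P.mod : Scheme.{u})}
    (hp : IsClosed ({p} : Set (ModPair.interior P.mod : Scheme.{u}))) :
    (P.total.toSpecΓ.base ((ModPair.interior P.mod).ι.base p)).asIdeal = primeB (A := Γ(P.total, ⊤)) (intRing P) := by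
  have h := congrArg PrimeSpectrum.asIdeal (congrArg (Spec.map (ModPair.interior P.mod).ι.appTop)
    (toSpecΓ_eq_closedPoint hp))
  rw [← Scheme.Hom.comp_apply, ← Scheme.toSpecΓ_naturality, Scheme.Hom.comp_apply] at h
  exact h

theorem exists_closed : ∃ p : (ModPair.interior P.mod : Scheme.{u}),
    IsClosed ({p} : Set (ModPair.interior P.mod : Scheme.{u})) := by
  refine ⟨(ModPair.interior P.mod : Scheme.{u}).isoSpec.inv (IsLocalRing.closedPoint (intRing P)), ?_⟩
  have := (ModPair.interior P.mod : Scheme.{u}).isoSpec.inv.homeomorph.isClosedMap _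
    (IsLocalRing.isClosed_singleton_closedPoint (intRing P))
  rwa [Set.image_singleton] at this

/-- The conditions at the closed point of the interior, in terms of its ring. -/
theorem condition_iff (Φ : Ideal Γ(P.total, ⊤) → Prop) :
    (∀ p : (ModPair.interior P.mod : Scheme.{u}),
      IsClosed ({p} : Set (ModPair.interior P.mod : Scheme.{u})) →
        Φ (P.total.toSpecΓ.base ((ModPair.interior P.mod).ι.base p)).asIdeal) ↔ Φ (primeB (A := Γ(P.total, ⊤)) (intRing P)) := by
  refine ⟨fun h => ?_, fun h p hp => by rwa [asIdeal_eq P hp]⟩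
  obtain ⟨p, hp⟩ := exists_closed P
  exact asIdeal_eq P hp ▸ h p hp

/-- Bijectivity onto the maximal ideal of the localization. -/
theorem bijOn_localization_iff :
    Set.BijOn (algebraMap Γ(P.total, ⊤) (Localization.AtPrime (primeB (A := Γ(P.total, ⊤)) (intRing P))))
        (primeB (A := Γ(P.total, ⊤)) (intRing P) : Set Γ(P.total, ⊤))
        (IsLocalRing.maximalIdeal (Localization.AtPrime (primeB (A := Γ(P.total, ⊤)) (intRing P))) :
          Set (Localization.AtPrime (primeB (A := Γ(P.total, ⊤)) (intRing P)))) ↔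
      Set.BijOn (algebraMap Γ(P.total, ⊤) (intRing P)) (primeB (A := Γ(P.total, ⊤)) (intRing P) : Set Γ(P.total, ⊤))
        (IsLocalRing.maximalIdeal (intRing P) : Set (intRing P)) := by
  obtain ⟨a, -, -, _⟩ := exists_away P
  exact bijOn_atPrime_iff (intRing P) a _

end Groth.Agent.ModPairLocal
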