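import Groth.Agent.ModPairLocal.Interior
import Groth.Agent.ModPairLib.Basic
import Mathlib.AlgebraicGeometry.ValuativeCriterion

/-! Glued valuative pairs are local for admissible blow-ups. -/

universe u

open CategoryTheory AlgebraicGeometry TopologicalSpace

set_option linter.style.haveILetI false
set_option linter.unusedSectionVars false
set_option backward.isDefEq.respectTransparency false
set_option backward.isDefEq.respectTransparency.types false

namespace Groth.Agent.ModPairLocal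

attribute [local instance] intAlg

variable (P : ModPair.Pair.{u}) [IsAffine P.total] [IsLocalRing Γ(P.total, ⊤)]
  [IsAffine (ModPair.interior P.mod : Scheme.{u})] [IsLocalRing (intRing P)]

set_option quotPrecheck false in
local notation "𝔮" => primeB (A := Γ(P.total, ⊤)) (intRing P)

theorem locAdm_of_valuationRing [ValuationRing (Γ(P.total, ⊤) ⧸ 𝔮)]
    (hbij : Set.BijOn (algebraMap Γ(P.total, ⊤) (intRing P)) (𝔮 : Set Γ(P.total, ⊤))
      (IsLocalRing.maximalIdeal (intRing P) : Set (intRing P))) : LocAdm P := by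
  obtain ⟨a, ha0, -, haway⟩ := exists_away P
  haveI := isLocalization_primeB (intRing P) a
  intro Q X q hq g
  obtain ⟨hmin, hproper, hiso⟩ := hq
  let A := Γ(P.total, ⊤)
  let R : CommRingCat.{u} := CommRingCat.of (A ⧸ 𝔮)
  let κ : CommRingCat.{u} := CommRingCat.of (IsLocalRing.ResidueField (intRing P))
  let β : A ⟶ intRing P := (ModPair.interior P.mod).ι.appTop
  let α : A ⟶ R := CommRingCat.ofHom (Ideal.Quotient.mk 𝔮)
  let σ : intRing P ⟶ κ := CommRingCat.ofHom (IsLocalRing.residue (intRing P))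
  let ρ₀ : (A ⧸ 𝔮) →+* IsLocalRing.ResidueField (intRing P) :=
    Ideal.Quotient.lift 𝔮 ((IsLocalRing.residue (intRing P)).comp β.hom)
      (fun x hx => (IsLocalRing.residue_eq_zero_iff _).2 hx)
  let ρ : R ⟶ κ := CommRingCat.ofHom ρ₀
  have hsq : α ≫ ρ = β ≫ σ := by ext x; rfl
  haveI : Nontrivial R := Ideal.Quotient.nontrivial_iff.2 (Ideal.IsPrime.ne_top inferInstance)
  haveI : IsLocalRing R := IsLocalRing.of_surjective' _ Ideal.Quotient.mk_surjective
  haveI : IsLocalHom α.hom := ⟨fun x hx => by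
    by_contra hu
    have hmem : x ∈ IsLocalRing.maximalIdeal A := hu
    obtain ⟨y, hy⟩ := hx.exists_right_inv
    obtain ⟨y, rfl⟩ := Ideal.Quotient.mk_surjective y
    have h1 : x * y - 1 ∈ 𝔮 := Ideal.Quotient.eq.1 hy
    have h2 := IsLocalRing.le_maximalIdeal (Ideal.IsPrime.ne_top inferInstance) h1
    exact (IsLocalRing.maximalIdeal.isMaximal A).ne_top ((Ideal.eq_top_iff_one _).2
      (by simpa using sub_mem (Ideal.mul_mem_right y _ hmem) h2))⟩
  haveI : IsLocalHom σ.hom := inferInstanceAs (IsLocalHom (IsLocalRing.residue (intRing P)))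
  haveI : IsLocalRing κ := inferInstanceAs (IsLocalRing (IsLocalRing.ResidueField (intRing P)))
  have hinj : ∀ x y, α x = α y → β x = β y → x = y := fun x y h1 h2 => by
    have h1' : x - y ∈ 𝔮 := Ideal.Quotient.eq.1 h1
    refine sub_eq_zero.1 (hbij.injOn h1' (zero_mem 𝔮) ?_)
    rw [map_sub, map_zero]
    exact sub_eq_zero.2 h2
  have hfib : ∀ r b, ρ r = σ b → ∃ x, α x = r ∧ β x = b := by
    intro r b h
    obtain ⟨x, rfl⟩ := Ideal.Quotient.mk_surjective r
    have hm : b - β x ∈ IsLocalRing.maximalIdeal (intRing P) := Ideal.Quotient.eq.1 h.symm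
    obtain ⟨y, hy, hy'⟩ := hbij.surjOn hm
    refine ⟨x + y, Ideal.Quotient.eq.2 (by simpa using hy), ?_⟩
    rw [map_add, show β y = b - β x from hy', add_sub_cancel]
  letI : Algebra R κ := ρ₀.toAlgebra
  haveI : IsDomain R := Ideal.Quotient.isDomain _
  haveI : IsFractionRing R (IsLocalRing.ResidueField (intRing P)) := by
    refine ⟨⟨fun s => ?_, fun z => ?_, fun {x y} hxy => ?_⟩⟩
    · obtain ⟨s, hs⟩ := s
      obtain ⟨s, rfl⟩ := Ideal.Quotient.mk_surjective s
      refine IsUnit.mk0 _ fun h => nonZeroDivisors.ne_zero hs ?_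
      exact Ideal.Quotient.eq_zero_iff_mem.2 ((IsLocalRing.residue_eq_zero_iff _).1 h)
    · obtain ⟨z, rfl⟩ := IsLocalRing.residue_surjective z
      obtain ⟨⟨x, s⟩, hx⟩ := IsLocalization.surj (𝔮).primeCompl z
      refine ⟨(Ideal.Quotient.mk 𝔮 x, ⟨Ideal.Quotient.mk 𝔮 s.1,
        mem_nonZeroDivisors_of_ne_zero fun h => s.2 (Ideal.Quotient.eq_zero_iff_mem.1 h)⟩), ?_⟩
      exact ((IsLocalRing.residue (intRing P)).map_mul _ _).symm.trans
        (congrArg (IsLocalRing.residue (intRing P)) hx)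
    · refine ⟨1, ?_⟩
      obtain ⟨x, rfl⟩ := Ideal.Quotient.mk_surjective x
      obtain ⟨y, rfl⟩ := Ideal.Quotient.mk_surjective y
      rw [OneMemClass.coe_one, one_mul, one_mul, Ideal.Quotient.eq]
      change algebraMap A (intRing P) (x - y) ∈ IsLocalRing.maximalIdeal (intRing P)
      rw [map_sub]
      exact Ideal.Quotient.eq.1 hxy
  haveI : ValuationRing R := ‹ValuationRing (Γ(P.total, ⊤) ⧸ 𝔮)›
  -- the lift on the interior
  have hg : ModPair.interior P.mod ≤ g.hom ⁻¹ᵁ ModPair.interior X.mod :=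
    ModPairLib.IsAmbient.interior_le g.cond
  let g₀ : (ModPair.interior P.mod : Scheme.{u}) ⟶ (ModPair.interior X.mod : Scheme.{u}) :=
    IsOpenImmersion.lift (ModPair.interior X.mod).ι ((ModPair.interior P.mod).ι ≫ g.hom) (by
      rintro _ ⟨y, rfl⟩
      rw [Scheme.Opens.range_ι]
      exact hg y.2)
  haveI := hiso
  let l : (ModPair.interior P.mod : Scheme.{u}) ⟶ Q.total :=
    g₀ ≫ inv (q.hom ∣_ ModPair.interior X.mod) ≫ (q.hom ⁻¹ᵁ ModPair.interior X.mod).ι
  have hl : l ≫ q.hom = (ModPair.interior P.mod).ι ≫ g.hom := by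
    simp only [l, Category.assoc, ← morphismRestrict_ι, IsIso.inv_hom_id_assoc]
    exact IsOpenImmersion.lift_fac _ _ _
  let G : Spec A ⟶ X.total := P.total.isoSpec.inv ≫ g.hom
  let G₂ : Spec (intRing P) ⟶ Q.total := (ModPair.interior P.mod : Scheme.{u}).isoSpec.inv ≫ l
  have hG₂ : G₂ ≫ q.hom = Spec.map β ≫ G := by
    rw [Category.assoc, hl, ← Category.assoc, ← Scheme.isoSpec_inv_naturality, Category.assoc]
  let S : ValuativeCommSq q.hom :=
    { R := R
      K := IsLocalRing.ResidueField (intRing P)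
      i₁ := Spec.map σ ≫ G₂
      i₂ := Spec.map α ≫ G
      commSq := ⟨by
        rw [Category.assoc, hG₂, ← Spec.map_comp_assoc, ← hsq, Spec.map_comp_assoc]
        rfl⟩ }
  have hex : ValuativeCriterion.Existence q.hom := by
    have h := hproper
    rw [IsProper.eq_valuativeCriterion, ValuativeCriterion.eq] at h
    exact h.1.1.1.1
  obtain ⟨⟨⟨G₁, hG₁a, hG₁b⟩⟩⟩ := hex S
  obtain ⟨Gl, hGl₁, hGl₂⟩ := exists_glue α β ρ σ hinj hsq hfib G₁ G₂ hG₁a
  have hGlq : Gl ≫ q.hom = G := hom_ext_glue α β hinj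
    (by rw [← Category.assoc, hGl₁]; exact hG₁b)
    (by rw [← Category.assoc, hGl₂, hG₂])
  have hh : (P.total.isoSpec.hom ≫ Gl) ≫ q.hom = g.hom := by
    rw [Category.assoc, hGlq, Iso.hom_inv_id_assoc]
  refine ⟨⟨P.total.isoSpec.hom ≫ Gl, ?_⟩, ModPair.Pair.Hom.ext hh⟩
  have hc : P.mod ≤ X.mod.comap g.hom := g.cond
  change P.mod ≤ Q.mod.comap _
  rw [show Q.mod = X.mod.comap q.hom from hmin, ← Scheme.IdealSheafData.comap_comp, hh]
  exact hc

end Groth.Agent.ModPairLocal
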