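import Groth.Agent.ModPairLib.BlowUp
import Groth.Agent.BlowUpLib.Glue
import Groth.Agent.ModPairLocal.Glue
import Groth.Prelude.Def_W4c6modpairsegaMP
import Mathlib.RingTheory.Valuation.ValuationRing
import Mathlib.RingTheory.Localization.AtPrime.Basic

/-! Modulus pairs local for coverings and admissible blow-ups. -/

universe u

open CategoryTheory CategoryTheory.Limits AlgebraicGeometry TopologicalSpace

set_option linter.style.haveILetI false

namespace Groth.Agent.ModPairLocal

/-- Locality for admissible blow-ups. -/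
def LocAdm (P : ModPair.Pair.{u}) : Prop :=
  ∀ (Q X : ModPair.Pair.{u}) (q : Q ⟶ X), ModPair.Pair.admBlowup q →
    ∀ g : P ⟶ X, ∃ h : P ⟶ Q, h ≫ q = g

/-- Locality for jointly surjective families of minimal morphisms with a property. -/
def LocCov (M : MorphismProperty Scheme.{u}) (P : ModPair.Pair.{u}) : Prop :=
  ∀ (X : ModPair.Pair.{u}) (ι : Type u) (U : ι → ModPair.Pair.{u}) (v : ∀ i, U i ⟶ X),
    (∀ i, ModPair.IsMinimal (U i).mod X.mod (v i).hom ∧ M (v i).hom) →
    (∀ x : X.total, ∃ (i : ι) (y : (U i).total), (v i).hom.base y = x) →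
    ∀ g : P ⟶ X, ∃ (i : ι) (h : P ⟶ U i), h ≫ v i = g

theorem LocCov.mono {M M' : MorphismProperty Scheme.{u}} {P : ModPair.Pair.{u}} (h : LocCov M P)
    (hle : M' ≤ M) : LocCov M' P :=
  fun X ι U v hv => h X ι U v fun i => ⟨(hv i).1, hle _ (hv i).2⟩

/-- A scheme with empty modulus. -/
noncomputable def triv (X : Scheme.{u}) : ModPair.Pair.{u} := ⟨X, ⊤, BlowUpLib.isEffCartier_top X⟩

/-- Locality for pairs gives locality of the total space. -/
theorem LocCov.scheme {M : MorphismProperty Scheme.{u}} {P : ModPair.Pair.{u}} (h : LocCov M P)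
    {X : Scheme.{u}} {ι : Type u} {U : ι → Scheme.{u}} (v : ∀ i, U i ⟶ X) (hv : ∀ i, M (v i))
    (hs : ∀ x, ∃ i y, (v i).base y = x) (g : P.total ⟶ X) :
    ∃ (i : ι) (h : P.total ⟶ U i), h ≫ v i = g := by
  obtain ⟨i, h', e⟩ := h (triv X) ι (fun i => triv (U i))
    (fun i => ⟨v i, le_of_eq (Scheme.IdealSheafData.comap_top (v i)).symm⟩)
    (fun i => ⟨(Scheme.IdealSheafData.comap_top (v i)).symm, hv i⟩) hs
    ⟨g, le_top.trans_eq (Scheme.IdealSheafData.comap_top g).symm⟩
  exact ⟨i, h'.hom, congrArg ModPair.Pair.Hom.hom e⟩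

/-- Locality for a presieve covering, as stated for schemes. -/
theorem LocCov.presieve {M : MorphismProperty Scheme.{u}} {P : ModPair.Pair.{u}} (h : LocCov M P)
    (X : Scheme.{u}) (R : Presieve X) (hR : R ∈ Scheme.precoverage M X) (g : P.total ⟶ X) :
    ∃ (Y : Scheme.{u}) (w : Y ⟶ X) (l : P.total ⟶ Y), R w ∧ l ≫ w = g := by
  obtain ⟨hcov, hP⟩ := hR
  choose Y w hw y hy using (Presieve.mem_comap_jointlySurjectivePrecoverage_iff Scheme.forget).1 hcov
  obtain ⟨x, l, hl⟩ := h.scheme w (fun x => hP (hw x)) (fun x => ⟨x, y x, hy x⟩) g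
  exact ⟨Y x, w x, l, hw x, hl⟩

variable (P : ModPair.Pair.{u})

/-- Zariski local pairs are spectra of local rings. -/
theorem affine_local [QuasiSeparatedSpace P.total] (h : LocCov (@IsOpenImmersion ⊓ @QuasiCompact) P) :
    IsAffine P.total ∧ IsLocalRing Γ(P.total, ⊤) := by
  haveI : Nonempty P.total := by
    by_contra hP
    haveI : IsEmpty P.total := not_nonempty_iff.1 hP
    obtain ⟨i, -⟩ := h.scheme (X := P.total) (ι := PEmpty.{u + 1}) (U := fun i => i.elim) (fun i => i.elim)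
      (fun i => i.elim) (fun x => isEmptyElim x) (𝟙 _)
    exact i.elim
  haveI hA : IsAffine P.total := by
    obtain ⟨U, l, hl⟩ := h.scheme (X := P.total) (ι := P.total.affineOpens) (fun U => U.1.ι)
      (fun U => by
        haveI : IsAffine (U.1 : Scheme.{u}) := U.2
        exact ⟨inferInstance, inferInstance⟩)
      (fun x => by
        obtain ⟨U, hU, hxU, -⟩ := exists_isAffineOpen_mem_and_subset (U := ⊤) (Set.mem_univ x)
        exact ⟨⟨U, hU⟩, ⟨x, hxU⟩, rfl⟩) (𝟙 _)
    haveI : IsAffine (U.1 : Scheme.{u}) := U.2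
    haveI : IsIso l := (⟨l, U.1.ι, hl, by
      rw [← cancel_mono U.1.ι, Category.assoc, hl, Category.comp_id, Category.id_comp]⟩ :
        P.total ≅ (U.1 : Scheme.{u})).isIso_hom
    exact IsAffine.of_isIso l
  refine ⟨hA, ?_⟩
  haveI : Nontrivial Γ(P.total, ⊤) :=
    PrimeSpectrum.nonempty_iff_nontrivial.1 (Nonempty.map (fun x => P.total.isoSpec.hom x) inferInstance)
  refine IsLocalRing.of_isUnit_or_isUnit_one_sub_self fun a => ?_
  let r : ULift.{u} Bool → Γ(P.total, ⊤) := fun b => cond b.down a (1 - a)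
  obtain ⟨b, l, hl⟩ := h.scheme (X := P.total) (ι := ULift.{u} Bool) (fun b => (P.total.basicOpen (r b)).ι)
    (fun b => by
      haveI : IsAffine (P.total.basicOpen (r b) : Scheme.{u}) := (isAffineOpen_top P.total).basicOpen _
      exact ⟨inferInstance, inferInstance⟩)
    (fun x => by
      have hu : IsUnit (P.total.presheaf.germ ⊤ x trivial a) ∨ IsUnit (P.total.presheaf.germ ⊤ x trivial (1 - a)) := by
        refine IsLocalRing.isUnit_or_isUnit_of_add_one ?_
        rw [← map_add, add_sub_cancel, map_one]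
      rcases hu with hu | hu
      · exact ⟨⟨true⟩, ⟨x, (P.total.mem_basicOpen_top a x).2 hu⟩, rfl⟩
      · exact ⟨⟨false⟩, ⟨x, (P.total.mem_basicOpen_top _ x).2 hu⟩, rfl⟩) (𝟙 _)
  have hall : P.total.basicOpen (r b) = ⊤ := eq_top_iff.2 fun x _ => by
    have hx : (P.total.basicOpen (r b)).ι (l x) = x := by
      rw [← Scheme.Hom.comp_apply, hl]; rfl
    exact hx ▸ (l x).2
  have hu : IsUnit (r b) := by
    refine P.total.toRingedSpace.isUnit_of_isUnit_germ ⊤ (r b) fun x hx => ?_
    exact (P.total.mem_basicOpen_top (r b) x).1 (hall.ge (Set.mem_univ x))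
  rcases b with ⟨⟨⟩⟩
  · exact Or.inr hu
  · exact Or.inl hu

variable [IsAffine P.total] [IsLocalRing Γ(P.total, ⊤)]

/-- The closed point. -/
noncomputable def clPt : P.total := P.total.isoSpec.inv (IsLocalRing.closedPoint Γ(P.total, ⊤))

theorem eq_top_of_mem {U : P.total.Opens} (h : clPt P ∈ U) : U = ⊤ := by
  refine eq_top_iff.2 fun x _ => ?_
  have h1 : P.total.isoSpec.inv (P.total.isoSpec.hom x) ⤳ clPt P :=
    (IsLocalRing.specializes_closedPoint _).map P.total.isoSpec.inv.continuous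
  rw [← Scheme.Hom.comp_apply, Iso.hom_inv_id] at h1
  exact h1.mem_open U.2 h

/-- Locally principal ideal sheaves are principal. -/
theorem exists_gen {I : P.total.IdealSheafData} (hI : ModPairLib.IsLocPrincipal I) :
    ∃ a, I.ideal ⟨⊤, isAffineOpen_top _⟩ = Ideal.span {a} := by
  obtain ⟨U, hU, a, ha⟩ := hI (clPt P)
  obtain rfl : U = ⟨⊤, isAffineOpen_top _⟩ := Subtype.ext (eq_top_of_mem P hU)
  exact ⟨a, ha⟩

/-- The equation of the modulus. -/
theorem exists_equation : ∃ a : Γ(P.total, ⊤), a ∈ nonZeroDivisors Γ(P.total, ⊤) ∧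
    P.mod.ideal ⟨⊤, isAffineOpen_top _⟩ = Ideal.span {a} ∧ ModPair.interior P.mod = P.total.basicOpen a := by
  obtain ⟨U, hU, a, ha, hI⟩ := P.isEffCartier (clPt P)
  obtain rfl : U = ⟨⊤, isAffineOpen_top _⟩ := Subtype.ext (eq_top_of_mem P hU)
  exact ⟨a, ha, hI, by simpa using ModPairLib.interior_inter_eq_basicOpen hI⟩

/-- Finitely generated ideals containing a power of the equation are principal. -/
theorem LocAdm.exists_span_singleton (h : LocAdm P) {a : Γ(P.total, ⊤)}
    (ha : P.mod.ideal ⟨⊤, isAffineOpen_top _⟩ = Ideal.span {a}) {J : Ideal Γ(P.total, ⊤)} (hJ : J.FG)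
    {n : ℕ} (hn : a ^ n ∈ J) : ∃ c, J = Ideal.span {c} := by
  let C := Scheme.IdealSheafData.ofIdealTop J
  have hC : C.ideal ⟨⊤, isAffineOpen_top _⟩ = J := by
    rw [Scheme.IdealSheafData.ofIdealTop_ideal]
    erw [P.total.presheaf.map_id, Ideal.map_id]
  have hCft : BlowUp.IsFiniteTypeIdeal C := fun V => by
    rw [Scheme.IdealSheafData.ofIdealTop_ideal]
    exact hJ.map _
  obtain ⟨Y, b, hb⟩ := BlowUpLib.exists_blowUp (X := P.total) (C := C)
  let Q : ModPair.Pair.{u} := ⟨Y, P.mod.comap b, ModPairLib.isEffCartier_comap_blowUp hb P.isEffCartier⟩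
  let q : Q ⟶ P := ⟨b, le_rfl⟩
  have hle : ModPair.interior P.mod ≤ ModPair.interior C := by
    intro x hx
    change x ∉ C.support
    rw [Scheme.IdealSheafData.mem_support_iff_of_mem (U := ⟨⊤, isAffineOpen_top _⟩) trivial, hC,
      Scheme.mem_zeroLocus_iff]
    intro h'
    refine h' _ hn ?_
    rw [P.total.mem_basicOpen_top, map_pow]
    refine IsUnit.pow _ ((P.total.mem_basicOpen_top a x).1 ?_)
    have e := ModPairLib.interior_inter_eq_basicOpen ha
    rw [← e]
    exact ⟨trivial, hx⟩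
  have hq : ModPair.Pair.admBlowup q :=
    ⟨rfl, BlowUpLib.isProper_of_isBlowUp C hb hCft, BlowUpLib.isIso_restrict hb _ hle⟩
  obtain ⟨s, hs⟩ := h Q P q hq (𝟙 P)
  have hlp : ModPairLib.IsLocPrincipal C := by
    have h1 := (ModPairLib.isLocPrincipal_of_isEffCartier hb.1).comap s.hom
    rw [← Scheme.IdealSheafData.comap_comp,
      show s.hom ≫ b = 𝟙 P.total from congrArg ModPair.Pair.Hom.hom hs,
      Scheme.IdealSheafData.comap_id] at h1
    exact h1
  obtain ⟨c, hc⟩ := exists_gen P hlp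
  exact ⟨c, hC ▸ hc⟩

end Groth.Agent.ModPairLocal
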